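import Groth.Agent.RelQRegLib.Scheme
import Groth.Agent.RegImmKindLib.KindFlat
import Groth.Agent.CanonRestrLib.Main
import Groth.Agent.QuotSchLib.ZeroLocus
import Groth.Agent.ExtPowLib.Pullback
import Groth.Agent.CubeConsLib.IsoCls
import Groth.Agent.OmegaAffLib.Universal
import Groth.Agent.S15539
import Groth.Agent.S9371
import Groth.Agent.S9372
import Groth.Prelude.Def_Canon

/-!
# Base change of canonical sheaves
-/

set_option autoImplicit false
set_option linter.style.haveILetI false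
set_option linter.unusedSectionVars false
set_option maxHeartbeats 1000000
set_option backward.isDefEq.respectTransparency false
set_option backward.isDefEq.respectTransparency.types false
universe u

open CategoryTheory CategoryTheory.Limits AlgebraicGeometry

noncomputable section

namespace CanonBCLib

open RegImm (Kind)

/-- `i` has, at `z`, a chart of kind `k` with `c` equations. -/
def AtLen (k : Kind) {Z X : Scheme.{u}} (c : ℕ) (i : Z ⟶ X) (z : Z) : Prop :=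
  ∃ U : X.affineOpens, i z ∈ U.1 ∧ IsClosedImmersion (i ∣_ U.1) ∧
    ∃ rs : List Γ(X, U.1), rs.length = c ∧ k.Seq Γ(X, U.1) rs ∧ RingHom.ker (i.app U.1).hom = Ideal.ofList rs

/-- Flat base change at a point keeps the number of equations. -/
theorem atLen_baseChange {X X' Z Z' : Scheme.{u}} {i : Z ⟶ X} {g : X' ⟶ X} [Flat g]
    {g' : Z' ⟶ Z} {i' : Z' ⟶ X'} (hsq : IsPullback g' i' i g) (k : Kind) {c : ℕ} (z : Z')
    (h : AtLen k c i (g' z)) : AtLen k c i' z := by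
  obtain ⟨⟨U, hU⟩, hzU, hcl, rs, hlen, hrs, hker⟩ := h
  obtain ⟨hU', hs⟩ := (KRLib.isClosedImmersion_restrict_iff i hU).1 hcl
  have hz : g (i' z) ∈ U := by rw [← Scheme.Hom.comp_apply, ← hsq.w, Scheme.Hom.comp_apply]; exact hzU
  obtain ⟨W, hW, hzW, hWU⟩ := exists_isAffineOpen_mem_and_subset (x := i' z) (U := g ⁻¹ᵁ U) hz
  obtain ⟨h1, h2, h3⟩ := KRLib.baseChange_data hsq hU hU' hs hW hWU
  letI := (g.appLE U W hWU).hom.toAlgebra
  haveI : Module.Flat Γ(X, U) Γ(X', W) := g.flat_appLE hU hW hWU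
  have h3' : RingHom.ker (i'.app W).hom = (Ideal.ofList rs).map (algebraMap Γ(X, U) Γ(X', W)) := by
    rw [h3, hker]; rfl
  have hne : (Ideal.ofList rs).map (algebraMap Γ(X, U) Γ(X', W)) ≠ ⊤ := fun htop => by
    rw [← h3', Ideal.eq_top_iff_one, RingHom.mem_ker, map_one] at htop
    have h4 : z ∈ Z'.basicOpen (1 : Γ(Z', i' ⁻¹ᵁ W)) := by
      rw [Scheme.basicOpen_of_isUnit Z' isUnit_one]; exact hzW
    rw [htop, Scheme.basicOpen_zero] at h4
    exact h4
  exact ⟨⟨W, hW⟩, hzW, (KRLib.isClosedImmersion_restrict_iff i' hW).2 ⟨h1, h2⟩, _,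
    (List.length_map _).trans hlen, RegImmKindLib.seq_map k hrs hne, h3'.trans (Ideal.map_ofList _ rs)⟩

/-- A quasi-regular chart with `c` equations adapted to the base. -/
theorem exists_chart_len {Z X S : Scheme.{u}} (f : X ⟶ S) (i : Z ⟶ X) [Flat (i ≫ f)] {c : ℕ} (z : Z)
    (h : AtLen .quasi c i z) :
    ∃ (U : X.Opens) (V : S.Opens) (e : U ≤ f ⁻¹ᵁ V), IsAffineOpen U ∧ IsAffineOpen V ∧ i z ∈ U ∧
      IsAffineOpen (i ⁻¹ᵁ U) ∧ Function.Surjective (i.app U) ∧
      ∃ rs : List Γ(X, U), rs.length = c ∧ RegImm.Kind.quasi.Seq Γ(X, U) rs ∧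
        RingHom.ker (i.app U).hom = Ideal.ofList rs ∧
        (letI := (f.appLE V U e).hom.toAlgebra
         Module.Flat Γ(S, V) (Γ(X, U) ⧸ Ideal.ofList rs)) := by
  obtain ⟨⟨U₀, hU₀⟩, hzU, hcl, rs₀, hlen, hrs₀, hker₀⟩ := h
  obtain ⟨hU₀', hs₀⟩ := (KRLib.isClosedImmersion_restrict_iff i hU₀).1 hcl
  obtain ⟨_, ⟨V, hV, rfl⟩, hzV, -⟩ :=
    S.isBasis_affineOpens.exists_subset_of_mem_open (Set.mem_univ (f (i z))) isOpen_univ
  obtain ⟨g, hgle, hzg⟩ := hU₀.exists_basicOpen_le (V := f ⁻¹ᵁ V ⊓ U₀) ⟨i z, ⟨hzV, hzU⟩⟩ hzU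
  obtain ⟨h1, h2, h3⟩ := KRLib.basicOpen_data i hU₀ hU₀' hs₀ g
  letI : Algebra Γ(X, U₀) Γ(X, X.basicOpen g) :=
    (X.presheaf.map (homOfLE (X.basicOpen_le g)).op).hom.toAlgebra
  haveI : IsLocalization.Away g Γ(X, X.basicOpen g) := hU₀.isLocalization_basicOpen g
  haveI : Module.Flat Γ(X, U₀) Γ(X, X.basicOpen g) := IsLocalization.flat _ (Submonoid.powers g)
  have h3' : RingHom.ker (i.app (X.basicOpen g)).hom =
      (Ideal.ofList rs₀).map (algebraMap Γ(X, U₀) Γ(X, X.basicOpen g)) := by rw [h3, hker₀]; rfl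
  have hne : (Ideal.ofList rs₀).map (algebraMap Γ(X, U₀) Γ(X, X.basicOpen g)) ≠ ⊤ := fun htop => by
    rw [← h3', Ideal.eq_top_iff_one, RingHom.mem_ker, map_one] at htop
    have h4 : z ∈ Z.basicOpen (1 : Γ(Z, i ⁻¹ᵁ X.basicOpen g)) := by
      rw [Scheme.basicOpen_of_isUnit Z isUnit_one]; exact hzg
    rw [htop, Scheme.basicOpen_zero] at h4
    exact h4
  have hker : RingHom.ker (i.app (X.basicOpen g)).hom =
      Ideal.ofList (rs₀.map (algebraMap Γ(X, U₀) Γ(X, X.basicOpen g))) := h3'.trans (Ideal.map_ofList _ rs₀)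
  have e : X.basicOpen g ≤ f ⁻¹ᵁ V := hgle.trans inf_le_left
  refine ⟨X.basicOpen g, V, e, hU₀.basicOpen g, hV, hzg, h1, h2, _, (List.length_map _).trans hlen,
    RegImmKindLib.seq_map .quasi hrs₀ hne, hker, ?_⟩
  have e' : i ⁻¹ᵁ X.basicOpen g ≤ (i ≫ f) ⁻¹ᵁ V := i.preimage_mono e
  letI := (f.appLE V (X.basicOpen g) e).hom.toAlgebra
  letI algC : Algebra Γ(S, V) Γ(Z, i ⁻¹ᵁ X.basicOpen g) := ((i ≫ f).appLE V _ e').hom.toAlgebra
  haveI : Module.Flat Γ(S, V) Γ(Z, i ⁻¹ᵁ X.basicOpen g) := (i ≫ f).flat_appLE hV h1 e'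
  let π : Γ(X, X.basicOpen g) →ₐ[Γ(S, V)] Γ(Z, i ⁻¹ᵁ X.basicOpen g) :=
    { (i.app (X.basicOpen g)).hom with
      commutes' := fun r => by
        show (f.appLE V (X.basicOpen g) e ≫ i.app (X.basicOpen g)).hom r = ((i ≫ f).appLE V _ e').hom r
        rw [Scheme.Hom.app_eq_appLE, Scheme.Hom.appLE_comp_appLE] }
  exact Module.Flat.of_linearEquiv ((Ideal.quotientEquivAlgOfEq Γ(S, V)
    (show _ = RingHom.ker π from hker.symm)).trans
    (Ideal.quotientKerAlgEquivOfSurjective (f := π) h2)).toLinearEquiv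

open RelQRegLib in
/-- Base change of an immersion flat over the base keeps the number of equations. -/
theorem atLen_baseChange_of_flat {Z X S Z' X' S' : Scheme.{u}} {f : X ⟶ S} [LocallyOfFinitePresentation f] [Flat f]
    {i : Z ⟶ X} [Flat (i ≫ f)] {g : S' ⟶ S} {p₁ : X' ⟶ X} {p₂ : X' ⟶ S'} (H : IsPullback p₁ p₂ f g)
    {q : Z' ⟶ Z} {i' : Z' ⟶ X'} (hsq : IsPullback q i' i p₁) {c : ℕ} (z' : Z')
    (h : AtLen .quasi c i (q z')) : AtLen .regular c i' z' := by
  let z := q z'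
  have hflat : (f.stalkMap (i z)).hom.Flat := Flat.stalkMap f _
  have hpz : p₁ (i' z') = i z := by rw [← Scheme.Hom.comp_apply, ← hsq.w, Scheme.Hom.comp_apply]
  obtain ⟨U, V, e, hU, hV, hz, hU', hs, rs, hlen, hrs, hker, hfl⟩ := exists_chart_len f i z h
  have hzV : g (p₂ (i' z')) ∈ V := by
    rw [← Scheme.Hom.comp_apply, ← H.w, Scheme.Hom.comp_apply, hpz]
    exact e hz
  obtain ⟨_, ⟨V', hV', rfl⟩, hzV', hg⟩ := S'.isBasis_affineOpens.exists_subset_of_mem_open hzV (g ⁻¹ᵁ V).2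
  let W := p₁ ⁻¹ᵁ U ⊓ p₂ ⁻¹ᵁ V'
  have hW : IsAffineOpen W := RpushLib.isAffineOpen_fibre H hV hV' hg hU e
  have hzW : i' z' ∈ W := ⟨show p₁ (i' z') ∈ U by rw [hpz]; exact hz, hzV'⟩
  have hWU : W ≤ p₁ ⁻¹ᵁ U := inf_le_left
  obtain ⟨h1, h2, h3⟩ := KRLib.baseChange_data hsq hU hU' hs hW hWU
  have hker' : RingHom.ker (i'.app W).hom = Ideal.ofList (rs.map (p₁.appLE U W hWU).hom) := by
    rw [h3, hker, Ideal.map_ofList]
  have hpo := RpushLib.isPushout_sections H hV hV' hg hU e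
  have hq := (FlatLib.flat_stalkMap_iff V hV U hU e hz).1 hflat
  have hfp := f.finitePresentation_appLE hV hU e
  algebraize [(f.appLE V U e).hom, (g.appLE V V' hg).hom, (p₁.appLE U W hWU).hom,
    (p₂.appLE V' W inf_le_right).hom, ((p₂.appLE V' W inf_le_right).hom.comp (g.appLE V V' hg).hom)]
  haveI : IsScalarTower Γ(S, V) Γ(X, U) Γ(X', W) :=
    IsScalarTower.of_algebraMap_eq' (congrArg CommRingCat.Hom.hom hpo.w).symm
  haveI : Algebra.IsPushout Γ(S, V) Γ(X, U) Γ(S', V') Γ(X', W) :=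
    CommRingCat.isPushout_iff_isPushout.mp hpo
  haveI : Algebra.IsPushout Γ(S, V) Γ(S', V') Γ(X, U) Γ(X', W) := Algebra.IsPushout.symm inferInstance
  have hcomap : PrimeSpectrum.comap (algebraMap Γ(X, U) Γ(X', W)) (hW.primeIdealOf ⟨i' z', hzW⟩) =
      hU.primeIdealOf ⟨i z, hz⟩ := by
    have h := IsAffineOpen.comap_primeIdealOf_appLE (f := p₁) U hU W hW hWU hzW
    simp only [hpz] at h
    exact h
  obtain ⟨b, hbq, hreg⟩ := exists_away_regular_baseChange (A := Γ(S, V)) (A' := Γ(S', V')) (B := Γ(X, U))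
    rs hrs hfl (hW.primeIdealOf ⟨i' z', hzW⟩).asIdeal (fun b hb => by
      have hb' : b ∈ RingHom.ker (i.app U).hom := by rw [hker]; exact Ideal.subset_span hb
      have h4 := prime_data i hU hU' hs z hz hb'
      rw [← hcomap] at h4
      exact h4) (hcomap.symm ▸ hq)
  obtain ⟨k1, k2, k3⟩ := KRLib.basicOpen_data i' hW h1 h2 b
  letI : Algebra Γ(X', W) Γ(X', X'.basicOpen b) :=
    (X'.presheaf.map (homOfLE (X'.basicOpen_le b)).op).hom.toAlgebra
  haveI : IsLocalization.Away b Γ(X', X'.basicOpen b) := hW.isLocalization_basicOpen b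
  refine ⟨⟨X'.basicOpen b, hW.basicOpen b⟩, ?_,
    (KRLib.isClosedImmersion_restrict_iff i' (hW.basicOpen b)).2 ⟨k1, k2⟩, _, ?_,
    hreg Γ(X', X'.basicOpen b), ?_⟩
  · show i' z' ∈ X'.basicOpen b
    rw [show i' z' = hW.fromSpec (hW.primeIdealOf ⟨i' z', hzW⟩) from (hW.fromSpec_primeIdealOf ⟨i' z', hzW⟩).symm]
    show hW.primeIdealOf ⟨i' z', hzW⟩ ∈ hW.fromSpec ⁻¹ᵁ X'.basicOpen b
    rw [hW.fromSpec_preimage_basicOpen b]
    exact hbq
  · rw [List.length_map, List.length_map, hlen]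
  · rw [k3, hker']
    exact Ideal.map_ofList _ _

theorem isCanonical_baseChange_of {X Y Z Y' X' P : Scheme.{u}} (i : X ⟶ Z) (g : Z ⟶ Y) (c n : ℕ)
    (hi : RegImm.IsRegularImmersionOfCodim .regular c i) [QuasiCompact i] [SmoothOfRelativeDimension n g]
    [QuasiSeparated g] (u : Y' ⟶ Y) (q : P ⟶ Z) (g' : P ⟶ Y') (H : IsPullback q g' g u)
    (p : X' ⟶ X) (i' : X' ⟶ P) (hsq : IsPullback p i' i q) (hfl : Flat (i ≫ g) ∨ Flat u)
    {ω : X.Modules} (hω : Canon.IsCanonicalVia i g c n ω) :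
    Canon.IsCanonical (i' ≫ g') ((Scheme.Modules.pullback p).obj ω) := by
  haveI := hi.1
  haveI : Smooth g := SmoothOfRelativeDimension.smooth n g
  haveI := smoothOfRelativeDimension_isStableUnderBaseChange n
  haveI : SmoothOfRelativeDimension n g' := MorphismProperty.of_isPullback H inferInstance
  haveI : QuasiSeparated g' := MorphismProperty.of_isPullback H inferInstance
  haveI : IsImmersion i' := MorphismProperty.of_isPullback hsq inferInstance
  haveI : QuasiCompact i' := MorphismProperty.of_isPullback hsq inferInstance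
  have hi' : RegImm.IsRegularImmersionOfCodim .regular c i' := by
    refine ⟨inferInstance, fun z => ?_⟩
    rcases hfl with hf | hu
    · haveI := hf
      obtain ⟨U, hzU, hcl, rs, hlen, hrs, hker⟩ := hi.2 (p z)
      exact atLen_baseChange_of_flat H hsq z ⟨U, hzU, hcl, rs, hlen, RegImmKindLib.seq_quasi_of_h1
        (RegImmKindLib.seq_h1_of_koszul (RegImmKindLib.seq_koszul_of_regular hrs)), hker⟩
    · haveI := hu
      haveI : Flat q := MorphismProperty.of_isPullback H.flip inferInstance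
      exact atLen_baseChange hsq .regular z (hi.2 (p z))
  obtain ⟨DC, DΩ, hDC, hDΩ, ⟨a⟩⟩ := hω
  obtain ⟨φ, hφ, -⟩ := Groth.Agent.S9371.result i' i q p hsq.w
  haveI : Epi φ := (Groth.Agent.S9372.result i' i q p hsq.flip φ hφ).1
  have hr := RegConLib.rank_conormal hi
  haveI : IsIso φ := QuotSchLib.isIso_of_epi_rank (SeesawLib.isFinLocFreeOfRank_pullback p hr)
    (RegConLib.rank_conormal hi') φ
  haveI : Coh.IsQCoh (Omega.conormal i) := (CurvLib.isCoh_of_locFree hr).1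
  refine ⟨P, i', g', c, n, rfl, hi', inferInstance, inferInstance, inferInstance,
    (Scheme.Modules.pullback p).obj DC, (Scheme.Modules.pullback q).obj DΩ,
    ExtPowLib.isExtPow_of_iso_left (asIso φ) (ExtPowLib.isExtPow_pullback p hDC),
    Groth.Agent.S15539.result Z Y P Y' g g' q u H n DΩ hDΩ, CubeConsLib.cl_eq_iff.1 ?_⟩
  rw [CubeConsLib.cl_tensor, ← CubeConsLib.pull_cl, ← CubeConsLib.pull_cl, ← map_mul, ← CubeConsLib.cl_tensor,
    CubeConsLib.cl_eq_iff.2 ⟨a⟩, ← CubeConsLib.pull_cl, ← CubeConsLib.pull_cl, ← CubeConsLib.pull_cl,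
    CubeConsLib.pull_comp, CubeConsLib.pull_comp, hsq.w]

end CanonBCLib
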